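import Cfsg.Agent.Lib.Trans3.Fi.Nice

/-!
An involution whose neighbours in the commuting graph of its class generate a double cover of `PSU₆(2)`,
possibly smaller than its centraliser.
-/

set_option autoImplicit false
set_option linter.unusedSectionVars false

namespace CfsgLib.InvChar.Fi22W

open CfsgLib.Trans3 CfsgLib.Trans3.Fi

variable {G : Type*} [Group G]

/-- The hypotheses on the involution. -/
structure CenW (d : G) : Prop where
  ord : orderOf d = 2
  mem : d ∈ Hd (conjugatesOf d) d
  u6 : IsU6 (Qd (conjugatesOf d) d)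
  group : Cfsg.IsThreeTranspositionGroup (Db (conjugatesOf d) d)
  cen : ∀ x ∈ Subgroup.center ↥(Hd (conjugatesOf d) d), (x : G) = 1 ∨ (x : G) = d
  inj : ∀ (u v : G) (hu : u ∈ nbrs (conjugatesOf d) d) (hv : v ∈ nbrs (conjugatesOf d) d),
    ((⟨u, Subgroup.subset_closure hu⟩ : ↥(Hd (conjugatesOf d) d)) : Qd (conjugatesOf d) d) =
      ((⟨v, Subgroup.subset_closure hv⟩ : ↥(Hd (conjugatesOf d) d)) : Qd (conjugatesOf d) d) → u = v
  small : ∀ g ∈ Subgroup.centralizer ({d} : Set G), (∀ u ∈ nbrs (conjugatesOf d) d, Commute g u) →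
    g = 1 ∨ g = d

end CfsgLib.InvChar.Fi22W
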