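import Cfsg.Agent.Lib.InvChar.Fi22W.Loc
import Cfsg.Agent.Lib.InvChar.Fi22Inv.Comp

/-!
The component of the commuting graph under the weak hypothesis: diameter two and primitivity.
-/

set_option autoImplicit false
set_option linter.unusedSectionVars false

namespace CfsgLib.InvChar.Fi22W

open CfsgLib.Trans3 CfsgLib.Trans3.Fi
open CfsgLib.InvChar.Fi22Inv (line_perp Adj Comp adj_symm comp_mem comp_symm adj_conj comp_conj conj_mem)

variable {G : Type*} [Group G] [Finite G] {d : G}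

variable (h : CenW d)
include h

/-- Two non-commuting neighbours of a member: the neighbours they share meet the neighbourhood of
every further neighbour of one of them. -/
theorem link {a b c e : G} (hb : b ∈ conjugatesOf d) (hab : a ∈ nbrs (conjugatesOf d) b)
    (hcb : c ∈ nbrs (conjugatesOf d) b) (hac : ¬ Commute a c) (he : e ∈ nbrs (conjugatesOf d) c) :
    ∃ y, y ∈ nbrs (conjugatesOf d) a ∧ y ∈ nbrs (conjugatesOf d) c ∧ Commute y e := by
  by_contra! hall
  obtain ⟨qA, qB, qC, qE, hq⟩ := u6_quad (loc_u6 h hb) (loc_group h hb) (bar_mem hab) (bar_mem hcb)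
    fun e => hac ((loc_commute h hb hab hcb).1 e)
  have hc : c ∈ conjugatesOf d := hcb.1
  have get : ∀ q ∈ [qA, qB, qC, qE], ∃ x, ∃ hx : x ∈ nbrs (conjugatesOf d) b, q = bar hx ∧
      x ∈ nbrs (conjugatesOf d) a ∧ x ∈ nbrs (conjugatesOf d) c ∧ ¬ Commute x e := by
    intro q hq'
    obtain ⟨m, c1, c2⟩ := hq.mem q hq'
    obtain ⟨x, hx, rfl⟩ := exists_bar m
    rw [loc_commute h hb hab hx] at c1
    rw [loc_commute h hb hcb hx] at c2
    have na : x ∈ nbrs (conjugatesOf d) a := ⟨hx.1, fun e' => hac (e' ▸ c2.symm), c1⟩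
    have nc : x ∈ nbrs (conjugatesOf d) c := ⟨hx.1, fun e' => hac (e' ▸ c1), c2⟩
    exact ⟨x, hx, rfl, na, nc, hall x na nc⟩
  obtain ⟨A, hA, rfl, aA, cA, bA⟩ := get qA (by simp)
  obtain ⟨B, hB, rfl, aB, cB, bB⟩ := get qB (by simp)
  obtain ⟨C, hC, rfl, aC, cC, bC⟩ := get qC (by simp)
  obtain ⟨E, hE, rfl, aE, cE, bE⟩ := get qE (by simp)
  have n1 : ∀ {u : G} (hu : u ∈ nbrs (conjugatesOf d) c), ¬ Commute u e →
      ¬ Commute (bar hu) (bar he) := fun hu e' e'' => e' ((loc_commute h hc hu he).1 e'')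
  have n2 : ∀ {u v : G} (hu : u ∈ nbrs (conjugatesOf d) b) (hv : v ∈ nbrs (conjugatesOf d) b)
      (hu' : u ∈ nbrs (conjugatesOf d) c) (hv' : v ∈ nbrs (conjugatesOf d) c),
      ¬ Commute (bar hu) (bar hv) → ¬ Commute (bar hu') (bar hv') :=
    fun hu hv hu' hv' e' e'' => e' ((loc_commute h hb hu hv).2 ((loc_commute h hc hu' hv').1 e''))
  have n3 : ∀ {u v w : G} (hu : u ∈ nbrs (conjugatesOf d) b) (hv : v ∈ nbrs (conjugatesOf d) b)
      (hw : w ∈ nbrs (conjugatesOf d) b) (hu' : u ∈ nbrs (conjugatesOf d) c)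
      (hv' : v ∈ nbrs (conjugatesOf d) c) (hw' : w ∈ nbrs (conjugatesOf d) c),
      Commute (bar hu * bar hv * bar hu) (bar hw) →
      Commute (bar hu' * bar hv' * bar hu') (bar hw') := by
    intro u v w hu hv hw hu' hv' hw' e'
    obtain ⟨m, em⟩ := loc_third h hb hu hv
    obtain ⟨m', em'⟩ := loc_third h hc hu' hv'
    rw [← em, loc_commute h hb m hw] at e'
    rw [← em', loc_commute h hc m' hw']; exact e'
  have n4 : ∀ {u v : G} (hu : u ∈ nbrs (conjugatesOf d) c) (hv : v ∈ nbrs (conjugatesOf d) c),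
      u ∈ nbrs (conjugatesOf d) a → v ∈ nbrs (conjugatesOf d) a →
      ¬ Commute (bar hu * bar hv * bar hu) (bar he) := by
    intro u v hu hv au av e'
    obtain ⟨m, em⟩ := loc_third h hc hu hv
    rw [← em, loc_commute h hc m he] at e'
    obtain ⟨m', -⟩ := loc_third h hab.1 au av
    exact hall _ m' m e'
  refine u6_no_bad (loc_u6 h hc) (loc_group h hc) (bar_mem he) (a := 1) (c := 1)
    (A := bar cA) (B := bar cB) (C := bar cC) (E := bar cE)
    ⟨?_, n2 hA hB cA cB hq.ab, n2 hA hC cA cC hq.ac, n2 hA hE cA cE hq.ae, n2 hB hC cB cC hq.bc,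
      n2 hB hE cB cE hq.be, n2 hC hE cC cE hq.ce, n3 hA hB hC cA cB cC hq.t₁,
      n3 hA hB hE cA cB cE hq.t₂, n3 hA hC hE cA cC cE hq.t₃⟩
    (n1 cA bA) (n1 cB bB) (n1 cC bC) (n1 cE bE) (n4 cA cB aA aB) (n4 cA cC aA aC)
    (n4 cA cE aA aE) (n4 cB cC aB aC) (n4 cB cE aB aE) (n4 cC cE aC aE)
  intro x hx
  simp only [List.mem_cons, List.not_mem_nil, or_false] at hx
  refine ⟨?_, Commute.one_left x, Commute.one_left x⟩
  rcases hx with rfl | rfl | rfl | rfl <;> exact bar_mem _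

/-- A further member commuting with two adjacent members. -/
theorem exists_third {a b : G} (ha : a ∈ conjugatesOf d) (hb : b ∈ nbrs (conjugatesOf d) a) :
    ∃ x, x ∈ nbrs (conjugatesOf d) a ∧ x ∈ nbrs (conjugatesOf d) b := by
  obtain ⟨q, hq, qne, qb, -, -⟩ := u6_mid (loc_u6 h ha) (loc_group h ha) (bar_mem hb) (bar_mem hb)
    (bar_mem hb) (Commute.refl _) (Commute.refl _)
  obtain ⟨x, hx, rfl⟩ := exists_bar hq
  exact ⟨x, hx, hx.1, fun e => qne (by subst e; rfl), ((loc_commute h ha hx hb).1 qb).symm⟩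

/-- Distance at most two. -/
theorem comp_two {a x : G} (ha : a ∈ conjugatesOf d) (hx : x ∈ Comp d a) :
    x = a ∨ Adj d a x ∨ ∃ b, Adj d a b ∧ Adj d b x := by
  induction hx with
  | refl => exact Or.inl rfl
  | @tail c e hac hce ih =>
    rcases ih with rfl | h1 | ⟨b, hab, hbc⟩
    · exact Or.inr (Or.inl hce)
    · exact Or.inr (Or.inr ⟨c, h1, hce⟩)
    by_cases hca : c = a
    · subst hca; exact Or.inr (Or.inl hce)
    by_cases cac : Commute a c
    · exact Or.inr (Or.inr ⟨c, ⟨hbc.1, hca, cac⟩, hce⟩)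
    obtain ⟨y, hya, hyc, hye⟩ := link h hab.1 (adj_symm ha hab) hbc cac hce
    by_cases e' : y = e
    · exact Or.inr (Or.inl (e' ▸ hya))
    · exact Or.inr (Or.inr ⟨y, hya, hce.1, Ne.symm e', hye⟩)

theorem comp_prod {a x y : G} (ha : a ∈ conjugatesOf d) (hx : x ∈ Comp d a) (hy : y ∈ Comp d a) :
    (x * y) ^ 2 = 1 ∨ (x * y) ^ 3 = 1 := by
  have hxm := comp_mem ha hx
  rcases comp_two h hxm ((comp_symm ha hx).trans hy) with rfl | e | ⟨b, hxb, hby⟩
  · left; rw [invol_mul_self (loc_ord h hxm), one_pow]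
  · left
    rw [e.2.2.mul_pow, pow_two, pow_two, invol_mul_self (loc_ord h hxm),
      invol_mul_self (loc_ord h e.1), one_mul]
  · exact loc_prod h hxb.1 (adj_symm hxm hxb) hby

theorem comp_Hd {a x : G} (ha : a ∈ conjugatesOf d) (hx : x ∈ Comp d a) :
    Hd (conjugatesOf d) x ≤ Subgroup.closure (Comp d a) :=
  Subgroup.closure_mono fun y hy => Relation.ReflTransGen.tail hx hy

theorem comp_stable {a g x : G} (ha : a ∈ conjugatesOf d) (hg : g ∈ Subgroup.closure (Comp d a))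
    (hx : x ∈ Comp d a) : g * x * g⁻¹ ∈ Comp d a := by
  induction hg using Subgroup.closure_induction_left generalizing x with
  | one => simpa using hx
  | mul_left u hu v _ ih =>
    have h2 := comp_conj u ((comp_symm ha hu).trans (ih hx))
    rw [show u * u * u⁻¹ = u by group] at h2
    rw [show u * v * x * (u * v)⁻¹ = u * (v * x * v⁻¹) * u⁻¹ by group]
    exact hu.trans h2
  | inv_mul_cancel u hu v _ ih =>
    have h2 := comp_conj u⁻¹ ((comp_symm ha hu).trans (ih hx))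
    rw [show u⁻¹ * u * u⁻¹⁻¹ = u by group] at h2
    rw [show u⁻¹ * v * x * (u⁻¹ * v)⁻¹ = u⁻¹ * (v * x * v⁻¹) * u⁻¹⁻¹ by group]
    exact hu.trans h2

theorem comp_trans {a x y : G} (ha : a ∈ conjugatesOf d) (hx : x ∈ Comp d a) (hy : y ∈ Comp d a) :
    ∃ g ∈ Subgroup.closure (Comp d a), g * x * g⁻¹ = y := by
  have key : ∀ z ∈ Comp d a, ∃ g ∈ Subgroup.closure (Comp d a), g * a * g⁻¹ = z := by
    intro z hz
    induction hz with
    | refl => exact ⟨1, one_mem _, by group⟩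
    | @tail u v hau huv ih =>
      obtain ⟨g, hg, rfl⟩ := ih
      obtain ⟨w, hwu, hwv⟩ := exists_third h (comp_mem ha hau) huv
      obtain ⟨q, hq⟩ := (u6Facts (loc_u6 h hwu.1) (loc_group h hwu.1)).conj _
        (bar_mem (adj_symm (comp_mem ha hau) hwu)) _ (bar_mem (adj_symm huv.1 hwv))
      obtain ⟨k, rfl⟩ := QuotientGroup.mk_surjective q
      refine ⟨(k : G) * g, mul_mem (comp_Hd h ha (Relation.ReflTransGen.tail hau hwu) k.2) hg, ?_⟩
      rw [← loc_conj_bar h hwu.1 _ _ k hq]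
      group
  obtain ⟨g, hg, rfl⟩ := key x hx
  obtain ⟨k, hk, rfl⟩ := key y hy
  exact ⟨k * g⁻¹, mul_mem hk (inv_mem hg), by group⟩

/-- A member not commuting with `a` in the component of `a`. -/
theorem exists_opposite {a : G} (ha : a ∈ conjugatesOf d) :
    ∃ c ∈ Comp d a, ¬ Commute a c := by
  obtain ⟨q, hq⟩ : ∃ q, q ∈ Db (conjugatesOf d) a := by
    obtain ⟨u, hu, -⟩ := (u6Facts (loc_u6 h ha) (loc_group h ha)).pair
    exact ⟨u, hu⟩
  obtain ⟨b, hb, rfl⟩ := exists_bar hq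
  by_contra! hall
  have hF := u6Facts (loc_u6 h hb.1) (loc_group h hb.1)
  have hz : bar (adj_symm ha hb) ∈ Subgroup.center (Qd (conjugatesOf d) b) := by
    rw [Subgroup.mem_center_iff]
    intro w
    have : w ∈ Subgroup.closure (Db (conjugatesOf d) b) := hF.group.2.2 ▸ Subgroup.mem_top w
    induction this using Subgroup.closure_induction with
    | mem v hv =>
      obtain ⟨c, hc, rfl⟩ := exists_bar hv
      exact ((loc_commute h hb.1 hc (adj_symm ha hb)).2
        (hall c (.tail (.tail .refl hb) hc)).symm).eq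
    | one => simp
    | mul u v _ _ h1 h2 => exact (Commute.mul_left h1 h2).eq
    | inv u _ h1 => exact (Commute.inv_left h1).eq
  rw [hF.center, Subgroup.mem_bot] at hz
  exact invol_ne_one (hF.group.1.1 _ (bar_mem (adj_symm ha hb))) hz

/-- Primitivity inside the group of the component. -/
theorem comp_block {a : G} (ha : a ∈ conjugatesOf d) {B : Set G} (hB : B ⊆ Comp d a)
    (hblock : ∀ g ∈ Subgroup.closure (Comp d a),
      (fun x => g * x * g⁻¹) '' B = B ∨ Disjoint ((fun x => g * x * g⁻¹) '' B) B)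
    (h2 : ¬ B.Subsingleton) : B = Comp d a := by
  -- conjugation fixing a point of the block
  have hfix : ∀ g ∈ Subgroup.closure (Comp d a), ∀ u ∈ B, g * u * g⁻¹ = u → ∀ v ∈ B,
      g * v * g⁻¹ ∈ B := by
    intro g hg u hu e v hv
    rcases hblock g hg with e' | e'
    · exact e' ▸ ⟨v, hv, rfl⟩
    · exact absurd (Set.disjoint_left.1 e' ⟨u, hu, e⟩ hu) id
  -- an adjacent pair spreads
  have spread : ∀ u ∈ B, ∀ v ∈ B, Adj d u v → ∀ w, Adj d u w → w ∈ B := by
    intro u hu v hv huv w huw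
    have hum := comp_mem ha (hB hu)
    obtain ⟨q, hq⟩ := (u6Facts (loc_u6 h hum) (loc_group h hum)).conj _ (bar_mem huv) _ (bar_mem huw)
    obtain ⟨k, rfl⟩ := QuotientGroup.mk_surjective q
    rw [← loc_conj_bar h hum _ _ k hq]
    refine hfix _ (comp_Hd h ha (hB hu) k.2) u hu ?_ v hv
    exact conj_eq_of_commute (commute_Hd k.2).symm
  have full : ∀ u ∈ B, ∀ v ∈ B, Adj d u v → B = Comp d a := by
    intro u hu v hv huv
    refine hB.antisymm fun x hx => ?_
    have hum := comp_mem ha (hB hu)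
    suffices x ∈ B ∧ ∀ w, Adj d x w → w ∈ B from this.1
    have hux : x ∈ Comp d u := (comp_symm ha (hB hu)).trans hx
    clear hx
    induction hux with
    | refl => exact ⟨hu, spread u hu v hv huv⟩
    | @tail p q hup hpq ih =>
      have hq := ih.2 q hpq
      exact ⟨hq, spread q hq p ih.1 (adj_symm (comp_mem hum hup) hpq)⟩
  obtain ⟨u, hu, v, hv, hne⟩ : ∃ u ∈ B, ∃ v ∈ B, u ≠ v := by
    simpa [Set.Subsingleton] using h2
  have hum := comp_mem ha (hB hu)
  rcases comp_two h hum ((comp_symm ha (hB hu)).trans (hB hv)) with e | e | ⟨g, hug, hgv⟩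
  · exact absurd e.symm hne
  · exact full u hu v hv e
  by_cases cuv : Commute u v
  · exact full u hu v hv ⟨hgv.1, hne.symm, cuv⟩
  have hgm := hug.1
  have hF := u6Facts (loc_u6 h hgm) (loc_group h hgm)
  have hgu := adj_symm hum hug
  have nuv : ¬ Commute (bar hgu) (bar hgv) := fun e => cuv ((loc_commute h hgm hgu hgv).1 e)
  obtain ⟨q, hq, qv, cqu⟩ : ∃ q ∈ Db (conjugatesOf d) g, q ≠ bar hgv ∧
      Commute q (bar hgv) ∧ ¬ Commute (bar hgu) q := by
    obtain ⟨r, hr, rv, crv, -, -⟩ := u6_mid (loc_u6 h hgm) (loc_group h hgm) (bar_mem hgv)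
      (bar_mem hgv) (bar_mem hgv) (Commute.refl _) (Commute.refl _)
    by_cases cr : Commute (bar hgu) r
    · obtain ⟨t, ht, t1, t2, -, t4⟩ := line_perp hF (bar_mem hgv) hr (bar_mem hgu) (Ne.symm rv)
        crv.symm cr nuv
      exact ⟨t, ht, t1, t2, t4⟩
    · exact ⟨r, hr, rv, crv, cr⟩
  obtain ⟨t, ht, rfl⟩ := exists_bar hq
  have hL := lvl_u6 (loc_u6 h hgm) (loc_group h hgm)
  obtain ⟨g', hg1, hg2⟩ := trans_noncomm (loc_group h hgm) hL.prim hL.pairc (bar_mem hgu)
    (bar_mem hgv) nuv (bar_mem ht) cqu.2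
  obtain ⟨k, rfl⟩ := QuotientGroup.mk_surjective g'
  have k1 := loc_conj_bar h hgm hgu hgu k hg1
  have k2 := loc_conj_bar h hgm hgv ht k hg2
  have htB : t ∈ B := k2 ▸ hfix _ (comp_Hd h ha ((hB hu).tail hug) k.2) u hu k1 v hv
  refine full v hv t htB ⟨ht.1, fun e => qv (by subst e; rfl), ?_⟩
  exact ((loc_commute h hgm ht hgv).1 cqu.1).symm

end CfsgLib.InvChar.Fi22W
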