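import Cfsg.Agent.Lib.InvChar.Fi22W.Comp
import Cfsg.Agent.Lib.InvChar.Fi22Inv.Hexad

/-!
Two non-commuting members of a component under the weak hypothesis: the hexad data.
-/

set_option autoImplicit false
set_option linter.unusedSectionVars false

namespace CfsgLib.InvChar.Fi22W

open CfsgLib.Trans3 CfsgLib.Trans3.Fi
open CfsgLib.InvChar.Fi22Inv (line_perp line_commute comS HexData Adj Comp adj_symm comp_mem comp_symm adj_conj comp_conj conj_mem)

variable {G : Type*} [Group G] [Finite G] {d : G}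

variable (h : CenW d)
include h

theorem exists_hex {a c : G} (ha : a ∈ conjugatesOf d) (hc : c ∈ Comp d a)
    (hac : ¬ Commute a c) :
    ∃ (hx : Fin 6 → Qd (conjugatesOf d) a) (y₁ y₂ y₃ : Qd (conjugatesOf d) a),
      HexData (Db (conjugatesOf d) a) (comS d a c) hx y₁ y₂ y₃ := by
  classical
  rcases comp_two h ha hc with rfl | e | ⟨g, hag, hgc⟩
  · exact absurd (Commute.refl _) hac
  · exact absurd e.2.2 hac
  have hgm := hag.1
  have hga : a ∈ nbrs (conjugatesOf d) g := adj_symm ha hag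
  have hDg := loc_group h hgm
  have hFg := u6Facts (loc_u6 h hgm) hDg
  have nac : ¬ Commute (bar hga) (bar hgc) := fun e => hac ((loc_commute h hgm hga hgc).1 e)
  obtain ⟨qA, qB, qC, qE, hq⟩ := u6_quad (loc_u6 h hgm) hDg (bar_mem hga) (bar_mem hgc) nac
  -- members of the neighbourhood of `g` commuting with `a` and `c`
  have lift : ∀ q ∈ Db (conjugatesOf d) g, Commute (bar hga) q → Commute (bar hgc) q →
      ∃ x, ∃ hx : x ∈ nbrs (conjugatesOf d) g, q = bar hx ∧ x ∈ nbrs (conjugatesOf d) a ∧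
        Commute c x := by
    intro q m c1 c2
    obtain ⟨x, hx, rfl⟩ := exists_bar m
    rw [loc_commute h hgm hga hx] at c1
    rw [loc_commute h hgm hgc hx] at c2
    exact ⟨x, hx, rfl, ⟨hx.1, fun e => hac (e ▸ c2.symm), c1⟩, c2⟩
  obtain ⟨A, gA, rfl, aA, cA⟩ := lift qA (hq.mem _ (by simp)).1 (hq.mem _ (by simp)).2.1
    (hq.mem _ (by simp)).2.2
  obtain ⟨B, gB, rfl, aB, cB⟩ := lift qB (hq.mem _ (by simp)).1 (hq.mem _ (by simp)).2.1
    (hq.mem _ (by simp)).2.2
  obtain ⟨C, gC, rfl, aC, cC⟩ := lift qC (hq.mem _ (by simp)).1 (hq.mem _ (by simp)).2.1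
    (hq.mem _ (by simp)).2.2
  obtain ⟨E, gE, rfl, aE, cE⟩ := lift qE (hq.mem _ (by simp)).1 (hq.mem _ (by simp)).2.1
    (hq.mem _ (by simp)).2.2
  obtain ⟨gP, eP⟩ := loc_third h hgm gA gB
  obtain ⟨aP, -⟩ := loc_third h ha aA aB
  have cP : Commute c (A * B * A) := (cA.mul_right cB).mul_right cA
  have hne : bar gP ≠ bar gC := fun e => hq.ce (e ▸ eP ▸ hq.t₂)
  obtain ⟨q₁, q₂, q₃, ⟨hnd, hmem, hco, hpr⟩, huniq⟩ :=
    hFg.line _ _ (bar_mem gP) (bar_mem gC) hne (eP ▸ hq.t₁)
  have fa := line_commute hDg (bar_mem hga)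
    ((loc_commute h hgm hga gP).2 aP.2.2) ((loc_commute h hgm hga gC).2 aC.2.2) hnd hmem hco hpr huniq
  have fc := line_commute hDg (bar_mem hgc)
    ((loc_commute h hgm hgc gP).2 cP) ((loc_commute h hgm hgc gC).2 cC) hnd hmem hco hpr huniq
  obtain ⟨T₁, g₁, rfl, a₁, c₁⟩ := lift q₁ (hmem _ (by simp)) (fa _ (by simp)) (fc _ (by simp))
  obtain ⟨T₂, g₂, rfl, a₂, c₂⟩ := lift q₂ (hmem _ (by simp)) (fa _ (by simp)) (fc _ (by simp))
  obtain ⟨T₃, g₃, rfl, a₃, c₃⟩ := lift q₃ (hmem _ (by simp)) (fa _ (by simp)) (fc _ (by simp))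
  obtain ⟨P, eP'⟩ : ∃ P, P = A * B * A := ⟨_, rfl⟩
  obtain ⟨v, ev⟩ : ∃ v : Fin 6 → G, v = ![g, P, C, T₁, T₂, T₃] := ⟨_, rfl⟩
  have va : ∀ i, v i ∈ nbrs (conjugatesOf d) a := by
    intro i; fin_cases i <;> simp only [ev, eP']
    exacts [hag, aP, aC, a₁, a₂, a₃]
  have vc : ∀ i, Commute c (v i) := by
    intro i; fin_cases i <;> simp only [ev, eP']
    exacts [hgc.2.2.symm, cP, cC, c₁, c₂, c₃]
  have vg : ∀ i, Commute g (v i) := by
    intro i; fin_cases i <;> simp only [ev, eP']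
    exacts [Commute.refl _, gP.2.2, gC.2.2, g₁.2.2, g₂.2.2, g₃.2.2]
  have cm : ∀ {x y : G} (hx : x ∈ nbrs (conjugatesOf d) g) (hy : y ∈ nbrs (conjugatesOf d) g),
      bar hx ∈ [bar gP, bar gC, bar g₁, bar g₂, bar g₃] →
      bar hy ∈ [bar gP, bar gC, bar g₁, bar g₂, bar g₃] → Commute x y :=
    fun hx hy mx my => (loc_commute h hgm hx hy).1 (hco _ mx _ my)
  have vcomm : ∀ i j, Commute (v i) (v j) := by
    intro i j
    rcases Fin.eq_zero_or_eq_succ i with rfl | ⟨i, rfl⟩
    · rw [show v 0 = g by rw [ev]; rfl]; exact vg j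
    rcases Fin.eq_zero_or_eq_succ j with rfl | ⟨j, rfl⟩
    · rw [show v 0 = g by rw [ev]; rfl]; exact (vg _).symm
    have mem : ∀ k : Fin 5, ∃ hk : v k.succ ∈ nbrs (conjugatesOf d) g,
        bar hk ∈ [bar gP, bar gC, bar g₁, bar g₂, bar g₃] := by
      intro k; subst ev eP'; fin_cases k
      exacts [⟨gP, by simp⟩, ⟨gC, by simp⟩, ⟨g₁, by simp⟩, ⟨g₂, by simp⟩, ⟨g₃, by simp⟩]
    obtain ⟨hi, mi⟩ := mem i
    obtain ⟨hj, mj⟩ := mem j
    exact cm hi hj mi mj
  have vinj : Function.Injective v := by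
    have hl : (List.ofFn v).Nodup := by
      have h5 : [P, C, T₁, T₂, T₃].Nodup := by
        subst eP'
        have := hnd
        simp only [List.nodup_cons, List.mem_cons, List.not_mem_nil, or_false, not_or,
          List.nodup_nil, and_true, not_false_eq_true] at this ⊢
        obtain ⟨⟨n1, n2, n3, n4⟩, ⟨n5, n6, n7⟩, ⟨n8, n9⟩, n10⟩ := this
        refine ⟨⟨?_, ?_, ?_, ?_⟩, ⟨?_, ?_, ?_⟩, ⟨?_, ?_⟩, ?_⟩
        all_goals intro e
        exacts [n1 (by subst e; rfl), n2 (by subst e; rfl), n3 (by subst e; rfl),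
          n4 (by subst e; rfl), n5 (by subst e; rfl), n6 (by subst e; rfl), n7 (by subst e; rfl),
          n8 (by subst e; rfl), n9 (by subst e; rfl), n10 (by subst e; rfl)]
      rw [show List.ofFn v = g :: [P, C, T₁, T₂, T₃] by simp [ev, List.ofFn_succ]]
      refine List.nodup_cons.2 ⟨?_, h5⟩
      subst eP'
      simp only [List.mem_cons, List.not_mem_nil, or_false]
      rintro (e | e | e | e | e)
      exacts [gP.2.1 e.symm, gC.2.1 e.symm, g₁.2.1 e.symm, g₂.2.1 e.symm, g₃.2.1 e.symm]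
    exact List.nodup_ofFn.1 hl
  -- the product of the six is one
  have hsix : g * (P * C * T₁ * T₂ * T₃) = 1 := by
    subst eP'
    obtain ⟨x, ex⟩ : ∃ x : ↥(Hd (conjugatesOf d) g), x =
        ⟨_, Subgroup.subset_closure gP⟩ * ⟨_, Subgroup.subset_closure gC⟩ *
        ⟨_, Subgroup.subset_closure g₁⟩ * ⟨_, Subgroup.subset_closure g₂⟩ *
        ⟨_, Subgroup.subset_closure g₃⟩ := ⟨_, rfl⟩
    have hxc : x ∈ Subgroup.center _ := by
      rw [← QuotientGroup.eq_one_iff, ex]
      simp only [QuotientGroup.mk_mul]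
      simpa [mul_assoc] using hpr
    have hxv : (x : G) = A * B * A * C * T₁ * T₂ * T₃ := by rw [ex]; rfl
    rcases loc_center h hgm hxc with e | e <;> rw [hxv] at e
    swap
    · rw [e]; exact loc_sq h hgm
    exfalso
    -- four members of product one in the neighbourhood of the first
    have hPm := gP.1
    have nb : ∀ k : Fin 4, v k.succ.succ ∈ nbrs (conjugatesOf d) (A * B * A) := by
      intro k
      refine ⟨(va _).1, fun e' => ?_, ?_⟩
      · have : v k.succ.succ = v 1 := e'.trans (by rw [ev]; rfl)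
        exact absurd (vinj this) (by fin_cases k <;> decide)
      · have := vcomm 1 k.succ.succ
        rwa [show v 1 = A * B * A by rw [ev]; rfl] at this
    let w : Fin 4 → Qd (conjugatesOf d) (A * B * A) := fun k => bar (nb k)
    have hF := u6Facts (loc_u6 h hPm) (loc_group h hPm)
    refine hF.four (List.ofFn w) (List.nodup_ofFn.2 fun i j e' => ?_) (by simp)
      (fun q hq => by obtain ⟨i, rfl⟩ := List.mem_ofFn.1 hq; exact bar_mem (nb i)) ?_ ?_
    · exact Fin.succ_injective _ (Fin.succ_injective _ (vinj (loc_bar_inj h hPm (nb i) (nb j) e')))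
    · simp only [List.mem_ofFn]
      rintro _ ⟨i, rfl⟩ _ ⟨j, rfl⟩
      exact (loc_commute h hPm (nb i) (nb j)).2 (vcomm _ _)
    · have e4 : (C * T₁ * T₂ * T₃ : G) = A * B * A := by
        have hs := loc_sq h hPm
        calc C * T₁ * T₂ * T₃
            = A * B * A * (A * B * A * C * T₁ * T₂ * T₃) := by
              simp only [← mul_assoc] at hs ⊢; rw [hs, one_mul]
          _ = A * B * A := by rw [e, mul_one]
      simp only [w, List.ofFn_succ, List.ofFn_zero, List.prod_cons, List.prod_nil, mul_one,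
        ← QuotientGroup.mk_mul]
      rw [QuotientGroup.eq_one_iff, Subgroup.mem_center_iff]
      intro z
      refine Subtype.ext ?_
      subst ev
      simp only [Subgroup.coe_mul]
      show (z : G) * (C * (T₁ * (T₂ * T₃))) = C * (T₁ * (T₂ * T₃)) * z
      simp only [← mul_assoc]
      rw [mul_assoc (z : G), mul_assoc (z : G), mul_assoc (z : G), e4]
      exact (commute_Hd z.2).eq.symm
  obtain ⟨aE2, -⟩ := loc_third h ha aA aE
  obtain ⟨gE2, eE2⟩ := loc_third h hgm gA gE
  have cE2 : Commute c (A * E * A) := (cA.mul_right cE).mul_right cA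
  -- a further one
  have Ca : a ∈ nbrs (conjugatesOf d) C := adj_symm ha aC
  have Cc : c ∈ nbrs (conjugatesOf d) C :=
    ⟨comp_mem ha hc, fun e => hac (e ▸ aC.2.2), cC.symm⟩
  have Cg : g ∈ nbrs (conjugatesOf d) C := adj_symm hgm gC
  obtain ⟨qw, mw, w1, w2, w3, -⟩ := u6_perp (loc_u6 h gC.1) (loc_group h gC.1) (bar_mem Ca)
    (bar_mem Cc) (fun e => hac ((loc_commute h gC.1 Ca Cc).1 e)) (bar_mem Cg) (bar_mem Cg)
    ((loc_commute h gC.1 Cg Ca).2 hag.2.2.symm) ((loc_commute h gC.1 Cg Cc).2 hgc.2.2)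
    ((loc_commute h gC.1 Cg Ca).2 hag.2.2.symm) ((loc_commute h gC.1 Cg Cc).2 hgc.2.2)
  obtain ⟨W, CW, rfl⟩ := exists_bar mw
  have cW : Commute c W := ((loc_commute h gC.1 CW Cc).1 w2).symm
  have aW : W ∈ nbrs (conjugatesOf d) a :=
    ⟨CW.1, fun e => hac (e ▸ cW.symm), ((loc_commute h gC.1 CW Ca).1 w1).symm⟩
  have nW : ¬ Commute W g := fun e => w3 ((loc_commute h gC.1 CW Cg).2 e)
  refine ⟨fun i => bar (va i), bar aE, bar aE2, bar aW,
    { sub := ?_, closed := ?_, mem := fun i => ⟨_, va i, rfl, vc i⟩,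
      inj := fun i j e => vinj (loc_bar_inj h ha (va i) (va j) e),
      comm := fun i j => (loc_commute h ha (va i) (va j)).2 (vcomm i j),
      prod := ?_, bound := ?_, mem₁ := ⟨_, aE, rfl, cE⟩, y₁a := ?_, y₁b := ?_, y₁c := ?_,
      mem₂ := ⟨_, aE2, rfl, cE2⟩, y₂a := ?_, y₂b := ?_, y₂c := ?_,
      mem₃ := ⟨_, aW, rfl, cW⟩, y₃a := ?_, y₃c := ?_ }⟩
  · rintro _ ⟨y, hy, rfl, -⟩; exact bar_mem hy
  · rintro _ ⟨p, hp, rfl, cp⟩ _ ⟨x, hx, rfl, cx⟩
    obtain ⟨hm, em⟩ := loc_third h ha hp hx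
    exact ⟨_, hm, em.symm, (cp.mul_right cx).mul_right cp⟩
  · subst ev
    simp only [List.ofFn_succ, List.ofFn_zero, List.prod_cons, List.prod_nil, mul_one,
      ← QuotientGroup.mk_mul]
    rw [QuotientGroup.eq_one_iff]
    convert one_mem (Subgroup.center ↥(Hd (conjugatesOf d) a))
    refine Subtype.ext ?_
    show g * (P * (C * (T₁ * (T₂ * T₃)))) = 1
    rw [← hsix]; simp only [mul_assoc]
  · rintro _ ⟨x, hx, rfl, cx⟩ hall
    by_cases exg : x = g
    · exact ⟨0, by subst exg ev; rfl⟩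
    have hxg : x ∈ nbrs (conjugatesOf d) g := ⟨hx.1, exg, by
      have := ((loc_commute h ha hx (va 0)).1 (hall 0)).symm
      rwa [show v 0 = g by rw [ev]; rfl] at this⟩
    have mem : ∀ k : Fin 5, ∃ hk : v k.succ ∈ nbrs (conjugatesOf d) g,
        bar hk ∈ [bar gP, bar gC, bar g₁, bar g₂, bar g₃] := by
      intro k; subst ev eP'; fin_cases k
      exacts [⟨gP, by simp⟩, ⟨gC, by simp⟩, ⟨g₁, by simp⟩, ⟨g₂, by simp⟩, ⟨g₃, by simp⟩]
    choose nk hk using mem
    by_contra hno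
    obtain ⟨W', eW'⟩ : ∃ W' : Fin 6 → Qd (conjugatesOf d) g,
        W' = @Fin.cons 5 (fun _ => Qd (conjugatesOf d) g) (bar hxg) (fun k => bar (nk k)) :=
      ⟨_, rfl⟩
    have hWinj : Function.Injective W' := by
      rw [eW', Fin.cons_injective_iff]
      refine ⟨?_, fun i j e => Fin.succ_injective _ (vinj (loc_bar_inj h hgm (nk i) (nk j) e))⟩
      rintro ⟨k, e⟩
      refine hno ⟨k.succ, ?_⟩
      have := loc_bar_inj h hgm (nk k) hxg e
      subst this
      rfl
    have h6 := u6_pair_width (loc_u6 h hgm) hDg (bar_mem hga) (bar_mem hgc) nac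
      (E := Set.range W') ?_ ?_ ?_
    · rw [Set.ncard_range_of_injective hWinj, Nat.card_fin] at h6
      omega
    · rw [eW', Set.range_subset_iff]
      intro i
      cases i using Fin.cases with
      | zero => rw [Fin.cons_zero]; exact bar_mem hxg
      | succ k => rw [Fin.cons_succ]; exact bar_mem (nk k)
    · rintro _ ⟨i, rfl⟩
      rw [eW']
      cases i using Fin.cases with
      | zero => exact ⟨(loc_commute h hgm hxg hga).2 hx.2.2.symm, (loc_commute h hgm hxg hgc).2 cx.symm⟩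
      | succ k =>
        exact ⟨(loc_commute h hgm (nk k) hga).2 (va k.succ).2.2.symm,
          (loc_commute h hgm (nk k) hgc).2 (vc k.succ).symm⟩
    · rintro _ ⟨i, rfl⟩ _ ⟨j, rfl⟩
      rw [eW']
      cases i using Fin.cases <;> cases j using Fin.cases <;> simp only [Fin.cons_zero, Fin.cons_succ]
      · exact Commute.refl _
      · rename_i k; exact (loc_commute h hgm hxg (nk k)).2 ((loc_commute h ha hx (va _)).1 (hall _))
      · rename_i k; exact (loc_commute h hgm (nk k) hxg).2 ((loc_commute h ha hx (va _)).1 (hall _)).symm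
      · exact (loc_commute h hgm (nk _) (nk _)).2 (vcomm _ _)
  all_goals subst ev eP'; rw [loc_commute h ha]
  all_goals simp only [Matrix.cons_val_zero, Matrix.cons_val_one, Matrix.cons_val]
  · exact gE.2.2.symm
  · exact ((loc_commute h hgm gP gE).1 (eP ▸ hq.t₂)).symm
  · exact fun e => hq.ce ((loc_commute h hgm gC gE).2 e.symm)
  · exact gE2.2.2.symm
  · intro e
    refine hq.be ((loc_commute h hgm gB gE).2 ?_)
    have hs := loc_sq h gA.1
    have e' := e.map (MulAut.conj A).toMonoidHom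
    simp only [MulEquiv.coe_toMonoidHom, MulAut.conj_apply, invol_inv (loc_ord h gA.1)] at e'
    rw [show A * (A * E * A) * A = (A * A) * E * (A * A) by group,
      show A * (A * B * A) * A = (A * A) * B * (A * A) by group, hs, one_mul, mul_one, one_mul,
      mul_one] at e'
    exact e'.symm
  · obtain ⟨gM, eM⟩ := loc_third h hgm gA gC
    have e := (loc_commute h hgm gM gE).1 (eM ▸ hq.t₃)
    have hs := loc_sq h gA.1
    have e' := e.map (MulAut.conj A).toMonoidHom
    simp only [MulEquiv.coe_toMonoidHom, MulAut.conj_apply, invol_inv (loc_ord h gA.1)] at e'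
    rw [show A * (A * C * A) * A = (A * A) * C * (A * A) by group, hs, one_mul, mul_one] at e'
    exact e'.symm
  · exact nW
  · exact CW.2.2.symm

end CfsgLib.InvChar.Fi22W
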