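import Cfsg.Agent.Lib.InvChar.Fi22W.Axioms
import Cfsg.Agent.Lib.InvChar.Fi22Inv.Loc

/-!
An involution whose neighbours in the commuting graph of its class generate a double cover of
`PSU₆(2)`, possibly smaller than its centraliser: the local facts at each conjugate.
-/

set_option autoImplicit false
set_option linter.unusedSectionVars false

namespace CfsgLib.InvChar.Fi22W

open CfsgLib.Trans3 CfsgLib.Trans3.Fi
open CfsgLib.InvChar.Fi22Inv (map_center_equiv conjugates_eq conj_mem nbrs_centralizer nbrs_conj')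

variable {G : Type*} [Group G] [Finite G] {d : G}

theorem loc_Hd_le {a g : G} (hg : g ∈ Hd (conjugatesOf d) a) :
    g ∈ Subgroup.centralizer ({a} : Set G) :=
  Subgroup.mem_centralizer_singleton_iff.2 (commute_Hd hg).symm.eq

theorem cen_of_mem (h : CenW d) {a : G} (ha : a ∈ conjugatesOf d) :
    IsU6 (Qd (conjugatesOf d) a) ∧ Cfsg.IsThreeTranspositionGroup (Db (conjugatesOf d) a) ∧
    (∀ x ∈ Subgroup.center ↥(Hd (conjugatesOf d) a), (x : G) = 1 ∨ (x : G) = a) ∧
    (∀ {u v : G} (hu : u ∈ nbrs (conjugatesOf d) a) (hv : v ∈ nbrs (conjugatesOf d) a),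
      bar hu = bar hv → u = v) ∧
    (∀ g, Commute g a → (∀ u ∈ nbrs (conjugatesOf d) a, Commute g u) → g = 1 ∨ g = a) := by
  obtain ⟨k, hk⟩ := isConj_iff.1 (show IsConj d a from ha)
  have hnb : ∀ {u : G}, u ∈ nbrs (conjugatesOf d) d → k * u * k⁻¹ ∈ nbrs (conjugatesOf d) a := by
    intro u hu
    refine ⟨conj_mem k hu.1, fun e => hu.2.1 ?_, ?_⟩
    · exact mul_left_cancel (mul_right_cancel (e.trans hk.symm))
    · have := hu.2.2.map (MulAut.conj k).toMonoidHom
      simpa [hk] using this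
  have hnb' : ∀ {u : G}, u ∈ nbrs (conjugatesOf d) a → k⁻¹ * u * k ∈ nbrs (conjugatesOf d) d := by
    intro u hu
    have e : k⁻¹ * a * k = d := by rw [← hk]; group
    refine ⟨?_, fun e' => hu.2.1 ?_, ?_⟩
    · simpa using conj_mem k⁻¹ hu.1
    · rw [← e] at e'
      exact mul_left_cancel (mul_right_cancel e')
    · have := hu.2.2.map (MulAut.conj k⁻¹).toMonoidHom
      simpa [e] using this
  have hmap : (Hd (conjugatesOf d) d).map (MulAut.conj k).toMonoidHom = Hd (conjugatesOf d) a := by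
    show (Subgroup.closure _).map _ = Subgroup.closure _
    rw [MonoidHom.map_closure]
    congr 1
    ext u
    constructor
    · rintro ⟨v, hv, rfl⟩; exact hnb hv
    · intro hu; exact ⟨k⁻¹ * u * k, hnb' hu, by simp [mul_assoc]⟩
  let E : ↥(Hd (conjugatesOf d) d) ≃* ↥(Hd (conjugatesOf d) a) :=
    ((MulAut.conj k).subgroupMap _).trans (MulEquiv.subgroupCongr hmap)
  have hE : ∀ u, ((E u : ↥(Hd (conjugatesOf d) a)) : G) = k * (u : G) * k⁻¹ := fun _ => rfl
  have hcen : (Subgroup.center ↥(Hd (conjugatesOf d) d)).map E.toMonoidHom =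
      Subgroup.center ↥(Hd (conjugatesOf d) a) := map_center_equiv E
  let e := QuotientGroup.congr _ _ E hcen
  have hbar : ∀ {u : G} (hu : u ∈ nbrs (conjugatesOf d) d), e (bar hu) = bar (hnb hu) := fun _ => rfl
  have hlift : ∀ {v : G} (hv : v ∈ nbrs (conjugatesOf d) a), e (bar (hnb' hv)) = bar hv := by
    intro v hv
    show QuotientGroup.mk (E _) = QuotientGroup.mk _
    refine congrArg QuotientGroup.mk (Subtype.ext ?_)
    show k * (k⁻¹ * v * k) * k⁻¹ = v
    group
  have himg : e '' Db (conjugatesOf d) d = Db (conjugatesOf d) a := by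
    ext t
    constructor
    · rintro ⟨q, hq, rfl⟩
      obtain ⟨u, hu, rfl⟩ := exists_bar hq
      rw [hbar hu]
      exact bar_mem (hnb hu)
    · intro ht
      obtain ⟨v, hv, rfl⟩ := exists_bar ht
      exact ⟨_, bar_mem (hnb' hv), hlift hv⟩
  refine ⟨?_, ?_, fun x hx => ?_, fun {u v} hu hv hb => ?_, fun g hga hg => ?_⟩
  · obtain ⟨F, i₁, i₂, hF, ⟨f⟩⟩ := h.u6
    exact ⟨F, i₁, i₂, hF, ⟨e.symm.trans f⟩⟩
  · have hD := h.group
    have hmem : ∀ q, e q ∈ Db (conjugatesOf d) a ↔ q ∈ Db (conjugatesOf d) d := fun q => by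
      rw [← himg, e.injective.mem_set_image]
    have hback : ∀ q, q ∈ Db (conjugatesOf d) a → e.symm q ∈ Db (conjugatesOf d) d := fun q hq =>
      (hmem _).1 (by rwa [e.apply_symm_apply])
    refine ⟨⟨fun q hq => ?_, fun q hq r hr => ?_⟩, fun g q hq => ?_, ?_⟩
    · rw [← MulEquiv.orderOf_eq e.symm]; exact hD.1.1 _ (hback q hq)
    · rcases hD.1.2 _ (hback q hq) _ (hback r hr) with h' | h' <;>
        rw [← map_mul, ← map_pow, e.symm.map_eq_one_iff] at h'
      exacts [Or.inl h', Or.inr h']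
    · have h1 := (hmem _).2 (hD.2.1 (e.symm g) _ (hback q hq))
      simpa using h1
    · rw [← himg, ← MulEquiv.coe_toMonoidHom, ← MonoidHom.map_closure, hD.2.2,
        Subgroup.map_top_of_surjective e.toMonoidHom e.surjective]
  · rw [← hcen] at hx
    obtain ⟨y, hy, rfl⟩ := hx
    show ((E y : ↥(Hd (conjugatesOf d) a)) : G) = 1 ∨ ((E y : ↥(Hd (conjugatesOf d) a)) : G) = a
    rw [hE]
    rcases h.cen y hy with e' | e' <;> rw [e']
    exacts [Or.inl (by group), Or.inr hk]
  · have h1 : e (bar (hnb' hu)) = e (bar (hnb' hv)) := by rw [hlift hu, hlift hv, hb]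
    have h2 := h.inj _ _ (hnb' hu) (hnb' hv) (e.injective h1)
    exact mul_left_cancel (mul_right_cancel h2)
  · have hgd : k⁻¹ * g * k ∈ Subgroup.centralizer ({d} : Set G) := by
      rw [Subgroup.mem_centralizer_singleton_iff]
      calc k⁻¹ * g * k * d = k⁻¹ * (g * (k * d * k⁻¹)) * k := by group
        _ = k⁻¹ * (k * d * k⁻¹ * g) * k := by rw [hk, hga.eq]
        _ = _ := by group
    have hcm : ∀ u ∈ nbrs (conjugatesOf d) d, Commute (k⁻¹ * g * k) u := fun u hu => by
      have := (hg _ (hnb hu)).map (MulAut.conj k⁻¹).toMonoidHom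
      simpa [mul_assoc] using this
    rcases h.small _ hgd hcm with e' | e'
    · left
      calc g = k * (k⁻¹ * g * k) * k⁻¹ := by group
        _ = 1 := by rw [e']; group
    · right
      calc g = k * (k⁻¹ * g * k) * k⁻¹ := by group
        _ = a := e'.symm ▸ hk

section Local

variable (h : CenW d) {a u v : G} (ha : a ∈ conjugatesOf d)
  (hu : u ∈ nbrs (conjugatesOf d) a) (hv : v ∈ nbrs (conjugatesOf d) a)
include h ha

theorem loc_u6 : IsU6 (Qd (conjugatesOf d) a) := (cen_of_mem h ha).1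

theorem loc_group : Cfsg.IsThreeTranspositionGroup (Db (conjugatesOf d) a) := (cen_of_mem h ha).2.1

theorem loc_center {x : ↥(Hd (conjugatesOf d) a)} (hx : x ∈ Subgroup.center _) :
    (x : G) = 1 ∨ (x : G) = a := (cen_of_mem h ha).2.2.1 x hx

theorem loc_ord : orderOf a = 2 := by
  obtain ⟨g, rfl⟩ := isConj_iff.1 (show IsConj d a from ha)
  rw [orderOf_conj, h.ord]

theorem loc_sq : a * a = 1 := invol_mul_self (loc_ord h ha)

/-- Elements centralising a member and all its neighbours. -/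
theorem loc_small {g : G} (hga : Commute g a) (hg : ∀ u ∈ nbrs (conjugatesOf d) a, Commute g u) :
    g = 1 ∨ g = a := (cen_of_mem h ha).2.2.2.2 g hga hg

include hu hv

theorem loc_bar_inj (e : bar hu = bar hv) : u = v := (cen_of_mem h ha).2.2.2.1 hu hv e

/-- Conjugation of neighbours inside the neighbourhood group. -/
theorem loc_conj_bar (g : ↥(Hd (conjugatesOf d) a))
    (e : (g : Qd (conjugatesOf d) a) * bar hu * (g : Qd (conjugatesOf d) a)⁻¹ = bar hv) :
    (g : G) * u * (g : G)⁻¹ = v :=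
  (cen_of_mem h ha).2.2.2.1 (nbrs_conj' (loc_Hd_le g.2) hu) hv e

theorem loc_third : ∃ hm : u * v * u ∈ nbrs (conjugatesOf d) a,
    bar hm = bar hu * bar hv * bar hu := by
  have hi : u⁻¹ = u := invol_inv (loc_ord h hu.1)
  have hm : u * v * u ∈ nbrs (conjugatesOf d) a := by
    have := nbrs_conj' (nbrs_centralizer hu) hv
    rwa [hi] at this
  refine ⟨hm, ?_⟩
  show (QuotientGroup.mk _ : Qd _ a) = QuotientGroup.mk _ * QuotientGroup.mk _ * QuotientGroup.mk _
  rw [← QuotientGroup.mk_mul, ← QuotientGroup.mk_mul]; rfl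

theorem loc_commute : Commute (bar hu) (bar hv) ↔ Commute u v := by
  refine ⟨fun e => ?_, fun e => ?_⟩
  · obtain ⟨hm, em⟩ := loc_third h ha hu hv
    have h1 : u * v * u = v := loc_bar_inj h ha hm hv (by
      rw [em, e.eq, mul_assoc, Trans3.sq_one (loc_group h ha).1 (bar_mem hu), mul_one])
    show u * v = v * u
    calc u * v = u * (v * (u * u)) := by rw [invol_mul_self (loc_ord h hu.1), mul_one]
      _ = u * v * u * u := by group
      _ = v * u := by rw [h1]
  · show (QuotientGroup.mk _ : Qd _ a) * QuotientGroup.mk _ = _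
    rw [← QuotientGroup.mk_mul, ← QuotientGroup.mk_mul]
    exact congrArg QuotientGroup.mk (Subtype.ext e.eq)

theorem loc_braid (hn : ¬ Commute u v) : u * v * u = v * u * v := by
  obtain ⟨hm, em⟩ := loc_third h ha hu hv
  obtain ⟨hm', em'⟩ := loc_third h ha hv hu
  exact loc_bar_inj h ha hm hm' (by
    rw [em, em']
    exact Trans3.braid (loc_group h ha).1 (bar_mem hu) (bar_mem hv)
      fun e => hn ((loc_commute h ha hu hv).1 e))

theorem loc_prod : (u * v) ^ 2 = 1 ∨ (u * v) ^ 3 = 1 := by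
  have su := invol_mul_self (loc_ord h hu.1)
  have sv := invol_mul_self (loc_ord h hv.1)
  by_cases e : Commute u v
  · left; rw [e.mul_pow, pow_two, pow_two, su, sv, one_mul]
  · right
    calc (u * v) ^ 3 = u * v * u * (v * u * v) := by rw [pow_succ, pow_two]; group
      _ = u * v * u * (u * v * u) := by rw [loc_braid h ha hu hv e]
      _ = u * v * (u * u) * v * u := by group
      _ = 1 := by rw [su, mul_one, mul_assoc u v v, sv, mul_one, su]

end Local

end CfsgLib.InvChar.Fi22W
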