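import Cfsg.Agent.Lib.InvChar.Fi22W.Hexad
import Cfsg.Agent.Lib.InvChar.Fi22Inv.Type
import Cfsg.Agent.Lib.Trans3.Fi.M22Order
import Cfsg.Agent.Lib.Trans3.Fi.Gate
import Cfsg.Agent.Lib.Trans3.FiConf.Config

/-!
A component under the weak hypothesis is of type M(22): 3510 members, group `Fi₂₂`, and the
centraliser of a member inside it is generated by its neighbours.
-/

set_option autoImplicit false
set_option linter.unusedSectionVars false

namespace CfsgLib.InvChar.Fi22W

open CfsgLib.Trans3 CfsgLib.Trans3.Fi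
open CfsgLib.InvChar.Fi22Inv (quot_center_map exists_coords_u6 quot_table tableGroup refl_table compSet comS line_perp Adj Comp adj_symm comp_mem comp_symm adj_conj comp_conj conj_mem)

variable {G : Type*} [Group G] [Finite G] {d : G} (h : CenW d)
include h

/-- The group of the common neighbours modulo its centre. -/
theorem pair_table {a c : G} (ha : a ∈ conjugatesOf d) (hc : c ∈ Comp d a) (hac : ¬ Commute a c) :
    Nonempty (↥(Subgroup.closure (nbrs (conjugatesOf d) a ∩ nbrs (conjugatesOf d) c)) ⧸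
      Subgroup.center ↥(Subgroup.closure (nbrs (conjugatesOf d) a ∩ nbrs (conjugatesOf d) c)) ≃*
      ↥tableGroup) := by
  classical
  obtain ⟨hx, y₁, y₂, y₃, H⟩ := exists_hex h ha hc hac
  obtain ⟨s, sinj, srange, sperm, sstep⟩ := exists_coords_u6 (loc_u6 h ha) (loc_group h ha) H
  have hm : ∀ k, s k ∈ comS d a c := fun k => srange ▸ ⟨k, rfl⟩
  choose y hy hbar hcy using hm
  have hyc : ∀ k, y k ∈ nbrs (conjugatesOf d) c :=
    fun k => ⟨(hy k).1, fun e => hac (e ▸ (hy k).2.2), hcy k⟩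
  have hrange : Set.range y = nbrs (conjugatesOf d) a ∩ nbrs (conjugatesOf d) c := by
    refine Set.Subset.antisymm (Set.range_subset_iff.2 fun k => ⟨hy k, hyc k⟩) fun x hx => ?_
    obtain ⟨k, hk⟩ : bar hx.1 ∈ Set.range s := srange ▸ ⟨x, hx.1, rfl, hx.2.2.2⟩
    exact ⟨k, loc_bar_inj h ha (hy k) hx.1 ((hbar k).symm.trans hk)⟩
  obtain ⟨Y, eY⟩ : ∃ Y : Fin 126 → ↥(Subgroup.closure (nbrs (conjugatesOf d) a ∩ nbrs (conjugatesOf d) c)),
      ∀ k, (Y k : G) = y k :=
    ⟨fun k => ⟨y k, Subgroup.subset_closure (hrange ▸ ⟨k, rfl⟩)⟩, fun _ => rfl⟩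
  have third : ∀ g k k', s g * s k * s g = s k' → Y g * Y k * Y g = Y k' := by
    intro g k k' e
    obtain ⟨hm, em⟩ := loc_third h ha (hy g) (hy k)
    refine Subtype.ext ?_
    rw [Subgroup.coe_mul, Subgroup.coe_mul, eY, eY, eY]
    exact loc_bar_inj h ha hm (hy k') (by rw [em, ← hbar, ← hbar, ← hbar, e])
  refine quot_table Y (fun i j e => sinj ?_) ?_ (fun k => ?_) (fun g k k' hg e => ?_)
    fun t ht k a' c' e1 e2 e3 => ?_
  · have := congrArg Subtype.val e
    rw [eY, eY] at this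
    rw [hbar i, hbar j]
    congr 1
  · refine Subgroup.map_injective (Subgroup.subtype_injective _) ?_
    rw [MonoidHom.map_closure, ← MonoidHom.range_eq_map, Subgroup.range_subtype, ← Set.range_comp,
      show (⇑(Subgroup.closure (nbrs (conjugatesOf d) a ∩ nbrs (conjugatesOf d) c)).subtype ∘ Y) = y
        from funext eY, hrange]
  · exact Subtype.ext (by
      rw [Subgroup.coe_mul, eY, Subgroup.coe_one]; exact loc_sq h (hy k).1)
  · exact third g k k' (sperm g k k' hg e)
  · exact (third a' c' k (sstep t ht k a' c' e1 e2 e3).symm).symm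

theorem comp_group {a : G} (ha : a ∈ conjugatesOf d) :
    Cfsg.IsThreeTranspositionGroup (compSet d a) := by
  refine ⟨⟨fun x hx => ?_, fun x hx y hy => ?_⟩, fun g x hx => comp_stable h ha g.2 hx, ?_⟩
  · rw [← Subgroup.orderOf_coe]; exact (loc_ord h (comp_mem ha hx))
  · rcases comp_prod h ha hx hy with e | e
    · exact Or.inl (Subtype.ext e)
    · exact Or.inr (Subtype.ext e)
  · exact Subgroup.closure_closure_coe_preimage

theorem comp_conjugates {a : G} (ha : a ∈ conjugatesOf d) :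
    compSet d a = conjugatesOf (⟨a, Subgroup.subset_closure .refl⟩ : ↥(Subgroup.closure (Comp d a))) := by
  ext x
  constructor
  · intro hx
    obtain ⟨g, hg, e⟩ := comp_trans h ha .refl hx
    exact isConj_iff.2 ⟨⟨g, hg⟩, Subtype.ext e⟩
  · intro hx
    obtain ⟨g, rfl⟩ := isConj_iff.1 (show IsConj _ x from hx)
    exact comp_stable h ha g.2 .refl

theorem comp_prim {a : G} (ha : a ∈ conjugatesOf d) : Cfsg.IsPrimitiveUnderConj (compSet d a) := by
  obtain ⟨c, hc, hac⟩ := exists_opposite h ha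
  refine ⟨fun x hx y hy => ?_, ⟨⟨a, Subgroup.subset_closure .refl⟩, .refl,
    ⟨c, Subgroup.subset_closure hc⟩, hc, fun e => hac ?_⟩,
    fun B hB hblock => or_iff_not_imp_left.2 fun hns => ?_⟩
  · obtain ⟨g, hg, e⟩ := comp_trans h ha hx hy
    exact ⟨⟨g, hg⟩, Subtype.ext e⟩
  · rw [show c = a from (congrArg Subtype.val e).symm]
  · have key : Subtype.val '' B = Comp d a := by
      refine comp_block h ha (Set.image_subset_iff.2 hB) (fun g hg => ?_) fun hs => hns ?_
      · have e : (fun x => g * x * g⁻¹) '' (Subtype.val '' B) =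
            Subtype.val '' ((fun x => (⟨g, hg⟩ : ↥(Subgroup.closure (Comp d a))) * x * ⟨g, hg⟩⁻¹) '' B) := by
          simp only [Set.image_image]; rfl
        rcases hblock ⟨g, hg⟩ with e' | e'
        · exact Or.inl (by rw [e, e'])
        · exact Or.inr (by rw [e]; exact Set.disjoint_image_of_injective Subtype.val_injective e')
      · exact fun x hx y hy => Subtype.ext (hs ⟨x, hx, rfl⟩ ⟨y, hy, rfl⟩)
    refine hB.antisymm fun x hx => ?_
    have hx' : (x : G) ∈ Subtype.val '' B := key.symm ▸ (show (x : G) ∈ Comp d a from hx)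
    obtain ⟨y, hy, e⟩ := hx'
    rwa [← Subtype.ext e]

theorem comp_m22 {a : G} (ha : a ∈ conjugatesOf d) :
    Cfsg.IsOfTypeM22 ↥(Subgroup.closure (Comp d a)) (compSet d a) := by
  obtain ⟨c, hc, hac⟩ := exists_opposite h ha
  obtain ⟨H, eH⟩ : ∃ H, H = Subgroup.closure (Comp d a) := ⟨_, rfl⟩
  obtain ⟨A, eA⟩ : ∃ A : ↥(Subgroup.closure (Comp d a)), A = ⟨a, Subgroup.subset_closure .refl⟩ :=
    ⟨_, rfl⟩
  obtain ⟨C, eC⟩ : ∃ C : ↥(Subgroup.closure (Comp d a)), C = ⟨c, Subgroup.subset_closure hc⟩ :=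
    ⟨_, rfl⟩
  have hnb : ∀ B : ↥(Subgroup.closure (Comp d a)), (B : G) ∈ Comp d a →
      (Subgroup.closure (Comp d a)).subtype '' {y | y ∈ compSet d a ∧ y ≠ B ∧ Commute B y} =
        nbrs (conjugatesOf d) (B : G) := by
    intro B hB
    ext y
    constructor
    · rintro ⟨x, ⟨hx, hne, hcm⟩, rfl⟩
      exact ⟨comp_mem ha hx, fun e => hne (Subtype.ext e), hcm.map (Subgroup.closure (Comp d a)).subtype⟩
    · intro hy
      have hy' : y ∈ Comp d a := hB.tail hy
      exact ⟨⟨y, Subgroup.subset_closure hy'⟩, ⟨hy', fun e => hy.2.1 (congrArg Subtype.val e),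
        Subtype.ext hy.2.2.eq⟩, rfl⟩
  refine ⟨?_, A, eA ▸ .refl, C, eC ▸ hc, fun e => hac (by subst eA eC; exact congrArg Subtype.val e.eq),
    ?_, 1, one_ne_zero, ?_⟩
  · rw [eq_bot_iff]
    intro z hz
    have hzc : ∀ x ∈ Comp d a, (z : G) * x = x * z := fun x hx =>
      (congrArg Subtype.val (Subgroup.mem_center_iff.1 hz ⟨x, Subgroup.subset_closure hx⟩)).symm
    rcases loc_small h ha (hzc a .refl) (fun u hu => hzc u (Relation.ReflTransGen.tail .refl hu))
      with e | e
    · exact Subgroup.mem_bot.2 (Subtype.ext e)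
    · exact absurd (show Commute a c from (show (z : G) = a from e) ▸ hzc c hc) hac
  · obtain ⟨F, i₁, i₂, hF, ⟨f⟩⟩ := loc_u6 h ha
    obtain ⟨E⟩ := quot_center_map (Subgroup.closure (Comp d a)).subtype (Subgroup.subtype_injective _)
      {y | y ∈ compSet d a ∧ y ≠ A ∧ Commute A y}
    rw [hnb A (eA ▸ .refl)] at E
    subst eA
    exact ⟨F, i₁, i₂, hF, ⟨E.trans f⟩⟩
  · obtain ⟨E⟩ := quot_center_map (Subgroup.closure (Comp d a)).subtype (Subgroup.subtype_injective _)
      ({y | y ∈ compSet d a ∧ y ≠ A ∧ Commute A y} ∩ {y | y ∈ compSet d a ∧ y ≠ C ∧ Commute C y})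
    rw [Set.image_inter (Subgroup.subtype_injective _), hnb A (eA ▸ .refl), hnb C (eC ▸ hc)] at E
    subst eA eC
    obtain ⟨P⟩ := pair_table h ha hc hac
    obtain ⟨R⟩ := refl_table
    refine ⟨CfsgLib.Trans3.FiConf.Dots.sq6, CfsgLib.Trans3.FiConf.Dots.sq6_nondeg, ?_,
      ⟨(E.trans P).trans R.symm⟩⟩
    show Cfsg.polarGramDet (⇑(SS.form fun _ : Fin 6 => (1 : ZMod 3))) = 1
    rw [SS.form_det]; decide

theorem comp_ncard {a : G} (ha : a ∈ conjugatesOf d) : (Comp d a).ncard = 3510 := by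
  have e : Comp d a = Subtype.val '' compSet d a := by
    ext x
    exact ⟨fun hx => ⟨⟨x, Subgroup.subset_closure hx⟩, hx, rfl⟩, by rintro ⟨y, hy, rfl⟩; exact hy⟩
  rw [e, Set.ncard_image_of_injective _ Subtype.val_injective,
    m22_card_D (comp_group h ha) (comp_prim h ha) (comp_m22 h ha)]

/-- The group of a component is the presented group. -/
theorem comp_iso {a : G} (ha : a ∈ conjugatesOf d) :
    Nonempty (↥(Subgroup.closure (Comp d a)) ≃* Cfsg.Spor.Fi22) :=
  CfsgLib.Trans3.FiConf.m22_iso (comp_group h ha) (comp_prim h ha) (comp_m22 h ha)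

/-- The centralizer of a member inside the group of its component. -/
theorem comp_cent {a x : G} (ha : a ∈ conjugatesOf d) (hx : x ∈ Comp d a) :
    Subgroup.centralizer ({x} : Set G) ⊓ Subgroup.closure (Comp d a) = Hd (conjugatesOf d) x := by
  refine le_antisymm ?_ (le_inf (fun g hg => loc_Hd_le hg) (comp_Hd h ha hx))
  rintro g ⟨hgc, hgS⟩
  obtain ⟨X, eX⟩ : ∃ X : ↥(Subgroup.closure (Comp d a)), X = ⟨x, Subgroup.subset_closure hx⟩ := ⟨_, rfl⟩
  have hXD : X ∈ compSet d a := eX ▸ hx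
  have hmem : (⟨g, hgS⟩ : ↥(Subgroup.closure (Comp d a))) ∈ Hd (compSet d a) X := by
    rw [m22_gate (comp_group h ha) (comp_prim h ha) (comp_m22 h ha) hXD,
      Subgroup.mem_centralizer_singleton_iff]
    subst eX
    exact Subtype.ext (Subgroup.mem_centralizer_singleton_iff.1 hgc)
  have himg := Subgroup.mem_map_of_mem (Subgroup.closure (Comp d a)).subtype hmem
  rw [Hd, MonoidHom.map_closure] at himg
  refine Subgroup.closure_mono ?_ himg
  rintro _ ⟨y, ⟨hy, hne, hc⟩, rfl⟩
  subst eX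
  exact ⟨comp_mem ha hy, fun e => hne (Subtype.ext e),
    hc.map (Subgroup.closure (Comp d a)).subtype⟩

end CfsgLib.InvChar.Fi22W
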