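import Cfsg.Agent.Lib.InvChar.Fi22W.Stab
import Cfsg.Agent.Lib.InvChar.Fi22W.Type

/-!
The facts about a component used by the stabiliser argument.
-/

set_option autoImplicit false

namespace CfsgLib.InvChar.Fi22W.Top

/-- The component facts hold. -/
theorem pack_of_cenW {G : Type*} [Group G] [Finite G] {d : G} (h : CenW d) : Pack d where
  group := comp_group h (mem_conjugatesOf_self (a := d))
  prim := comp_prim h (mem_conjugatesOf_self (a := d))
  m22 := comp_m22 h (mem_conjugatesOf_self (a := d))
  inner := fun g hg hc => (comp_cent h (mem_conjugatesOf_self (a := d)) .refl).le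
    ⟨Subgroup.mem_centralizer_singleton_iff.2 hc.eq, hg⟩

end CfsgLib.InvChar.Fi22W.Top
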