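import Cfsg.Agent.Lib.InvChar.Fi22W.Axioms
import Cfsg.Agent.Lib.Trans3.Fi.InvolM22
import Cfsg.Agent.Lib.Trans3.Fi.InvolAuto
import Cfsg.Agent.Lib.Invol.Basic

/-!
The component of a member carries a group of type M(22), and under a fixed point condition on the involutions
this group has index two in the whole group.
-/

set_option autoImplicit false
set_option linter.unusedSectionVars false

namespace CfsgLib.InvChar.Fi22W.Top

open CfsgLib.Trans3.Fi
open CfsgLib.Invol (invol_mul_self invol_inv invol_of_mul_self)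

variable {G : Type*} [Group G]

/-- The component of a member. -/
def Cmp (d : G) : Set G :=
  {x | Relation.ReflTransGen (fun x y => y ∈ nbrs (conjugatesOf d) x) d x}

/-- The component as a set in the group it generates. -/
def cset (d : G) : Set ↥(Subgroup.closure (Cmp d)) := {x | (x : G) ∈ Cmp d}

/-- What is known about a component. -/
structure Pack (d : G) : Prop where
  group : Cfsg.IsThreeTranspositionGroup (cset d)
  prim : Cfsg.IsPrimitiveUnderConj (cset d)
  m22 : Cfsg.IsOfTypeM22 ↥(Subgroup.closure (Cmp d)) (cset d)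
  inner : ∀ g ∈ Subgroup.closure (Cmp d), Commute g d → g ∈ Hd (conjugatesOf d) d

variable {d : G}

theorem conj_mem_class (g : G) {x : G} (hx : x ∈ conjugatesOf d) : g * x * g⁻¹ ∈ conjugatesOf d :=
  (show IsConj d x from hx).trans (isConj_iff.2 ⟨g, rfl⟩)

theorem cmp_class {x : G} (hx : x ∈ Cmp d) : x ∈ conjugatesOf d := by
  induction hx with
  | refl => exact mem_conjugatesOf_self
  | tail _ h _ => exact h.1

theorem cmp_symm {x : G} (hx : x ∈ Cmp d) :
    Relation.ReflTransGen (fun x y => y ∈ nbrs (conjugatesOf d) x) x d := by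
  induction hx with
  | refl => exact .refl
  | tail h1 h2 ih => exact Relation.ReflTransGen.head ⟨cmp_class h1, h2.2.1.symm, h2.2.2.symm⟩ ih

theorem chain_conj (g : G) {x y : G}
    (h : Relation.ReflTransGen (fun x y => y ∈ nbrs (conjugatesOf d) x) x y) :
    Relation.ReflTransGen (fun x y => y ∈ nbrs (conjugatesOf d) x) (g * x * g⁻¹) (g * y * g⁻¹) := by
  induction h with
  | refl => exact .refl
  | tail _ h ih =>
    exact ih.tail ⟨conj_mem_class g h.1, fun e => h.2.1 (mul_left_cancel (mul_right_cancel e)),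
      h.2.2.map (MulAut.conj g).toMonoidHom⟩

theorem cmp_of_commute {x y : G} (hx : x ∈ Cmp d) (hy : y ∈ conjugatesOf d) (hc : Commute x y) :
    y ∈ Cmp d := by
  by_cases e : y = x
  · exact e ▸ hx
  · exact Relation.ReflTransGen.tail hx ⟨hy, e, hc⟩

theorem Hd_le : Hd (conjugatesOf d) d ≤ Subgroup.closure (Cmp d) :=
  Subgroup.closure_mono fun _ hy => Relation.ReflTransGen.single hy

/-- One member moved into the component moves all of it. -/
theorem stable_of_one {g x : G} (hx : x ∈ Cmp d) (hg : g * x * g⁻¹ ∈ Cmp d) :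
    ∀ y ∈ Cmp d, g * y * g⁻¹ ∈ Cmp d := fun _ hy =>
  hg.trans (chain_conj g ((cmp_symm hx).trans hy))

/-- The stabiliser of the component. -/
def St (d : G) : Subgroup G where
  carrier := {g | g * d * g⁻¹ ∈ Cmp d}
  one_mem' := by
    show (1 : G) * d * 1⁻¹ ∈ Cmp d
    rw [one_mul, inv_one, mul_one]
    exact Relation.ReflTransGen.refl
  mul_mem' {g h} hg hh := by
    show g * h * d * (g * h)⁻¹ ∈ Cmp d
    have := stable_of_one (g := g) Relation.ReflTransGen.refl hg _ hh
    rwa [show g * h * d * (g * h)⁻¹ = g * (h * d * h⁻¹) * g⁻¹ by group]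
  inv_mem' {g} hg := by
    show g⁻¹ * d * g⁻¹⁻¹ ∈ Cmp d
    have h := chain_conj g⁻¹ (cmp_symm (show g * d * g⁻¹ ∈ Cmp d from hg))
    rwa [show g⁻¹ * (g * d * g⁻¹) * g⁻¹⁻¹ = d by group] at h

theorem mem_St {g : G} : g ∈ St d ↔ g * d * g⁻¹ ∈ Cmp d := Iff.rfl

theorem St_stable {g x : G} (hg : g ∈ St d) (hx : x ∈ Cmp d) : g * x * g⁻¹ ∈ Cmp d :=
  stable_of_one Relation.ReflTransGen.refl hg x hx

theorem St_of_one {g x : G} (hx : x ∈ Cmp d) (hg : g * x * g⁻¹ ∈ Cmp d) : g ∈ St d :=
  stable_of_one hx hg d Relation.ReflTransGen.refl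

theorem closure_le_St : Subgroup.closure (Cmp d) ≤ St d :=
  (Subgroup.closure_le _).2 fun x hx => St_of_one hx (by rwa [mul_inv_cancel_right])

theorem cent_le_St {g x : G} (hx : x ∈ Cmp d) (hg : Commute g x) : g ∈ St d :=
  St_of_one hx (by rwa [hg.eq, mul_inv_cancel_right])

theorem St_normalizes {g s : G} (hg : g ∈ St d) (hs : s ∈ Subgroup.closure (Cmp d)) :
    g * s * g⁻¹ ∈ Subgroup.closure (Cmp d) := by
  induction hs using Subgroup.closure_induction with
  | mem x hx => exact Subgroup.subset_closure (St_stable hg hx)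
  | one => simp
  | mul x y _ _ h1 h2 =>
    rw [show g * (x * y) * g⁻¹ = g * x * g⁻¹ * (g * y * g⁻¹) by group]; exact mul_mem h1 h2
  | inv x _ h1 => rw [show g * x⁻¹ * g⁻¹ = (g * x * g⁻¹)⁻¹ by group]; exact inv_mem h1

/-- The conditions. -/
structure Data (d : G) : Prop where
  cen : CenW d
  pack : Pack d
  /-- The neighbourhood group has index two in the centraliser. -/
  swap : ∃ w : G, Commute w d ∧ w ∉ Hd (conjugatesOf d) d
  index_le : ∀ w w' : G, Commute w d → Commute w' d → w ∉ Hd (conjugatesOf d) d →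
    w' ∉ Hd (conjugatesOf d) d → w * w' ∈ Hd (conjugatesOf d) d
  /-- Elements centralising an involution of the neighbourhood group stabilise the component. -/
  cent : ∀ i ∈ Hd (conjugatesOf d) d, orderOf i = 2 → ∀ g : G, Commute g i → g ∈ St d

variable [Finite G] (X : Data d)
include X

theorem ord {x : G} (hx : x ∈ conjugatesOf d) : orderOf x = 2 := by
  obtain ⟨g, rfl⟩ := isConj_iff.1 (show IsConj d x from hx)
  rw [CfsgLib.Invol.orderOf_conj_eq, X.cen.ord]

theorem le_St : Subgroup.closure (Cmp d) ≤ St d :=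
  closure_le_St

/-- An involution stabilising the component fixes a member. -/
theorem fixes {u : G} (hu : u ∈ St d) (hu2 : u * u = 1) : ∃ c ∈ Cmp d, Commute u c := by
  let S := Subgroup.closure (Cmp d)
  have hui : u⁻¹ = u := inv_eq_of_mul_eq_one_right hu2
  let φ : MulAut ↥S :=
    { toFun := fun s => ⟨u * s * u⁻¹, St_normalizes hu s.2⟩
      invFun := fun s => ⟨u * s * u⁻¹, St_normalizes hu s.2⟩
      left_inv := fun s => Subtype.ext (by
        show u * (u * (s : G) * u⁻¹) * u⁻¹ = s
        rw [hui, ← mul_assoc, ← mul_assoc, hu2, one_mul, mul_assoc, hu2, mul_one])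
      right_inv := fun s => Subtype.ext (by
        show u * (u * (s : G) * u⁻¹) * u⁻¹ = s
        rw [hui, ← mul_assoc, ← mul_assoc, hu2, one_mul, mul_assoc, hu2, mul_one])
      map_mul' := fun s s' => Subtype.ext (by
        show u * ((s : G) * s') * u⁻¹ = u * s * u⁻¹ * (u * s' * u⁻¹)
        group) }
  obtain ⟨c, hc, e⟩ := m22_auto_fixed X.pack.group X.pack.prim X.pack.m22 φ
    (MulEquiv.ext fun s => φ.left_inv s)
  exact ⟨c, hc, mul_inv_eq_iff_eq_mul.1 (congrArg Subtype.val e)⟩

/-- Members stabilising the component belong to it. -/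
theorem member {y : G} (hy : y ∈ conjugatesOf d) (hS : y ∈ St d) : y ∈ Cmp d := by
  obtain ⟨c, hc, hyc⟩ := fixes X hS (invol_mul_self (ord X hy))
  exact cmp_of_commute hc hy hyc.symm

theorem trans_cmp {x y : G} (hx : x ∈ Cmp d) (hy : y ∈ Cmp d) :
    ∃ k ∈ Subgroup.closure (Cmp d), k * x * k⁻¹ = y := by
  obtain ⟨k, hk⟩ := X.pack.prim.1 ⟨x, Subgroup.subset_closure hx⟩ hx ⟨y, Subgroup.subset_closure hy⟩ hy
  exact ⟨k, k.2, congrArg Subtype.val hk⟩

/-- Inner involutions. -/
theorem cent_inner {i : G} (hi : i ∈ Subgroup.closure (Cmp d)) (hi2 : orderOf i = 2) {g : G}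
    (hg : Commute g i) : g ∈ St d := by
  obtain ⟨c, hc, hic⟩ := fixes X (le_St X hi) (invol_mul_self hi2)
  obtain ⟨k, hk, e⟩ := trans_cmp X hc Relation.ReflTransGen.refl
  have h1 : k * i * k⁻¹ ∈ Hd (conjugatesOf d) d :=
    X.pack.inner _ (mul_mem (mul_mem hk hi) (inv_mem hk)) (by
      have := hic.map (MulAut.conj k).toMonoidHom
      simpa [e] using this)
  have h2 := X.cent _ h1 (by rw [CfsgLib.Invol.orderOf_conj_eq, hi2]) (k * g * k⁻¹)
    (hg.map (MulAut.conj k).toMonoidHom)
  have hkS := le_St X hk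
  have := mul_mem (mul_mem (inv_mem hkS) h2) hkS
  rwa [show k⁻¹ * (k * g * k⁻¹) * k = g by group] at this

/-- An inner involution at a member which is no member. -/
theorem pair_not_member {a b : G} (ha : a ∈ Cmp d) (hb : b ∈ nbrs (conjugatesOf d) a) :
    orderOf (a * b) = 2 ∧ a * b ∉ conjugatesOf d := by
  have sa := invol_mul_self (ord X (cmp_class ha))
  have sb := invol_mul_self (ord X hb.1)
  have hne : a * b ≠ 1 := fun e => hb.2.1 (by
    rw [← inv_eq_of_mul_eq_one_right e, inv_eq_of_mul_eq_one_right sa])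
  refine ⟨invol_of_mul_self (by rw [show a * b * (a * b) = a * (b * a) * b by group, ← hb.2.2.eq,
    show a * (a * b) * b = a * a * (b * b) by group, sa, sb, one_mul]) hne, fun hf => ?_⟩
  have hb' : b ∈ Cmp d := ha.tail hb
  have hf' : a * b ∈ Cmp d :=
    cmp_of_commute ha hf ((Commute.refl a).mul_right hb.2.2)
  have hno := (m22_noRel X.pack.group X.pack.m22).1
  refine hno [⟨a, Subgroup.subset_closure ha⟩, ⟨b, Subgroup.subset_closure hb'⟩,
    ⟨a * b, Subgroup.subset_closure hf'⟩] ?_ rfl ?_ ?_ ?_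
  · simp only [List.nodup_cons, List.mem_cons, List.not_mem_nil, or_false, not_or, List.nodup_nil,
      and_true, Subtype.mk.injEq, not_false_eq_true]
    exact ⟨⟨fun e => hb.2.1 e.symm, fun e => CfsgLib.Invol.invol_ne_one (ord X hb.1) (mul_eq_left.1 e.symm)⟩,
      fun e => CfsgLib.Invol.invol_ne_one (ord X (cmp_class ha)) (mul_eq_right.1 e.symm)⟩
  · intro y hy
    simp only [List.mem_cons, List.not_mem_nil, or_false] at hy
    rcases hy with rfl | rfl | rfl <;> assumption
  · intro x hx y hy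
    simp only [List.mem_cons, List.not_mem_nil, or_false] at hx hy
    have c1 : Commute a (a * b) := (Commute.refl a).mul_right hb.2.2
    have c2 : Commute b (a * b) := hb.2.2.symm.mul_right (Commute.refl b)
    rcases hx with rfl | rfl | rfl <;> rcases hy with rfl | rfl | rfl <;>
      first
        | exact Commute.refl _
        | exact Subtype.ext hb.2.2.eq
        | exact Subtype.ext hb.2.2.symm.eq
        | exact Subtype.ext c1.eq
        | exact Subtype.ext c1.symm.eq
        | exact Subtype.ext c2.eq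
        | exact Subtype.ext c2.symm.eq
  · refine Subtype.ext ?_
    simp only [List.prod_cons, List.prod_nil, mul_one, Subgroup.coe_mul, Subgroup.coe_one]
    rw [show a * (b * (a * b)) = a * (b * a) * b by group, ← hb.2.2.eq,
      show a * (a * b) * b = a * a * (b * b) by group, sa, sb, one_mul]

theorem inner_or_mul {g h : G} (hg : g ∈ St d) (hh : h ∈ St d) (hg' : g ∉ Subgroup.closure (Cmp d))
    (hh' : h ∉ Subgroup.closure (Cmp d)) : g * h ∈ Subgroup.closure (Cmp d) := by
  have split : ∀ g ∈ St d, g ∉ Subgroup.closure (Cmp d) → ∃ k ∈ Subgroup.closure (Cmp d),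
      ∃ w, Commute w d ∧ w ∉ Hd (conjugatesOf d) d ∧ g = k * w := by
    intro g hg hg'
    obtain ⟨k, hk, e⟩ := trans_cmp X Relation.ReflTransGen.refl hg
    refine ⟨k, hk, k⁻¹ * g, ?_, fun hw => hg' ?_, by group⟩
    · show k⁻¹ * g * d = d * (k⁻¹ * g)
      calc k⁻¹ * g * d = k⁻¹ * (g * d * g⁻¹) * g := by group
        _ = k⁻¹ * (k * d * k⁻¹) * g := by rw [e]
        _ = d * (k⁻¹ * g) := by group
    · have := mul_mem hk (Hd_le hw)
      rwa [mul_inv_cancel_left] at this
  obtain ⟨k, hk, w, hw, hwH, rfl⟩ := split g hg hg'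
  obtain ⟨k', hk', w', hw', hwH', rfl⟩ := split h hh hh'
  rw [show k * w * (k' * w') = k * (w * k' * w⁻¹) * (w * w') by group]
  exact mul_mem (mul_mem hk (St_normalizes (cent_le_St Relation.ReflTransGen.refl hw) hk'))
    (Hd_le (X.index_le w w' hw hw' hwH hwH'))

/-- Outer involutions. -/
theorem cent_outer {u : G} (hu : u ∈ St d) (hu' : u ∉ Subgroup.closure (Cmp d)) (hu2 : orderOf u = 2)
    {g : G} (hg : Commute g u) : g ∈ St d := by
  classical
  have su := invol_mul_self hu2
  obtain ⟨a, ha, hua⟩ := fixes X hu su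
  by_contra hgS
  -- a second fixed member
  obtain ⟨b, hb, hub⟩ : ∃ b ∈ nbrs (conjugatesOf d) a, Commute u b := by
    haveI := Fintype.ofFinite G
    haveI : Fact (Nat.Prime 2) := ⟨Nat.prime_two⟩
    have hconj : ∀ b ∈ nbrs (conjugatesOf d) a, u * b * u⁻¹ ∈ nbrs (conjugatesOf d) a := fun b hb => by
      refine ⟨conj_mem_class u hb.1, fun e => hb.2.1 ?_, ?_⟩
      · have e' : u * b * u⁻¹ = u * a * u⁻¹ := by rw [e, hua.eq, mul_inv_cancel_right]
        exact mul_left_cancel (mul_right_cancel e')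
      · have := hb.2.2.map (MulAut.conj u).toMonoidHom
        simpa [hua.eq] using this
    let σ : Equiv.Perm (nbrs (conjugatesOf d) a) := Function.Involutive.toPerm
      (fun x => ⟨u * x.1 * u⁻¹, hconj _ x.2⟩) fun x => Subtype.ext (show u * (u * x.1 * u⁻¹) * u⁻¹ = x.1 by
        rw [inv_eq_of_mul_eq_one_right su, ← mul_assoc, ← mul_assoc, su, one_mul, mul_assoc, su, mul_one])
    have hσ : σ ^ 2 ^ 1 = 1 := Equiv.ext fun x => by
      rw [pow_one, pow_two]
      exact (Function.Involutive.toPerm_involutive _) x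
    have hcard : ¬ 2 ∣ Fintype.card (nbrs (conjugatesOf d) a) := by
      obtain ⟨k, -, e⟩ := trans_cmp X Relation.ReflTransGen.refl ha
      have himg : nbrs (conjugatesOf d) a = (fun y => k * y * k⁻¹) '' nbrs (conjugatesOf d) d := by
        ext y
        constructor
        · intro hy
          refine ⟨k⁻¹ * y * k, ⟨by simpa using conj_mem_class k⁻¹ hy.1, fun e' => hy.2.1 ?_, ?_⟩, by group⟩
          · rw [← e, ← e']; group
          · have := hy.2.2.map (MulAut.conj k⁻¹).toMonoidHom
            rw [MulEquiv.coe_toMonoidHom, MulAut.conj_apply, MulAut.conj_apply, ← e] at this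
            simpa [mul_assoc] using this
        · rintro ⟨x, hx, rfl⟩
          refine ⟨conj_mem_class k hx.1, fun e' => hx.2.1 (mul_left_cancel (mul_right_cancel (e'.trans e.symm))), ?_⟩
          have := hx.2.2.map (MulAut.conj k).toMonoidHom
          simpa [e] using this
      have h693 : (Db (conjugatesOf d) d).ncard = 693 := u6_card_D X.cen.u6 X.cen.group
      have hbij : (Db (conjugatesOf d) d).ncard = (nbrs (conjugatesOf d) d).ncard := by
        symm
        refine Set.ncard_congr (fun y hy => bar hy) (fun y hy => bar_mem hy)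
          (fun y y' hy hy' e => X.cen.inj y y' hy hy' e) fun q hq => ?_
        obtain ⟨y, hy, rfl⟩ := exists_bar hq
        exact ⟨y, hy, rfl⟩
      rw [← Nat.card_eq_fintype_card, Nat.card_coe_set_eq, himg,
        Set.ncard_image_of_injective _ fun x y e => mul_left_cancel (mul_right_cancel e), ← hbij, h693]
      decide
    obtain ⟨x, hx⟩ := Equiv.Perm.exists_fixed_point_of_prime hcard hσ
    exact ⟨x.1, x.2, mul_inv_eq_iff_eq_mul.1 (congrArg Subtype.val hx)⟩
  obtain ⟨i, hi⟩ : ∃ i, i = a * b := ⟨_, rfl⟩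
  obtain ⟨hi2, hiD⟩ := pair_not_member X ha hb
  rw [← hi] at hi2 hiD
  have hiS : i ∈ Subgroup.closure (Cmp d) :=
    hi ▸ mul_mem (Subgroup.subset_closure ha) (Subgroup.subset_closure (ha.tail hb))
  have hiu : Commute i u := hi ▸ hua.symm.mul_left hub.symm
  obtain ⟨j, hj⟩ : ∃ j, j = g * a * g⁻¹ := ⟨_, rfl⟩
  have hjD : j ∈ conjugatesOf d := hj ▸ conj_mem_class g (cmp_class ha)
  have hjS : j ∉ St d := fun h => hgS (St_of_one ha (hj ▸ member X hjD h))
  have hju : Commute j u := by
    rw [hj]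
    have hgu : g * u * g⁻¹ = u := by rw [hg.eq, mul_inv_cancel_right]
    have := (hua.symm).map (MulAut.conj g).toMonoidHom
    simpa [hgu] using this
  have hj2 := ord X hjD
  have hev : Even (orderOf (i * j)) := CfsgLib.Invol.even_of_not_isConj hi2 hj2 fun hc =>
    hiD ((show IsConj d j from hjD).trans hc.symm)
  obtain ⟨m, hm⟩ := hev
  obtain ⟨v, hv⟩ : ∃ v, v = (i * j) ^ (orderOf (i * j) / 2) := ⟨_, rfl⟩
  have hv2 : orderOf v = 2 := hv ▸ CfsgLib.Invol.orderOf_pow_half ⟨m, hm⟩
  have hvi : Commute v i := hv ▸ CfsgLib.Invol.commute_pow_half_left hi2 hj2 ⟨m, hm⟩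
  have hvj : Commute v j := hv ▸ CfsgLib.Invol.commute_pow_half_right hi2 hj2 ⟨m, hm⟩
  have hvS : v ∈ St d := cent_inner X hiS hi2 hvi
  by_cases hvin : v ∈ Subgroup.closure (Cmp d)
  · exact hjS (cent_inner X hvin hv2 hvj.symm)
  by_cases hvu : v = u
  swap
  · have hvuC : Commute v u := hv ▸ (hiu.mul_left hju).pow_left _
    have hw : orderOf (v * u) = 2 := invol_of_mul_self (by
      rw [show v * u * (v * u) = v * (u * v) * u by group, ← hvuC.eq,
        show v * (v * u) * u = v * v * (u * u) by group, invol_mul_self hv2, su, one_mul])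
      fun e => hvu (by rw [← inv_eq_of_mul_eq_one_right (invol_mul_self hv2),
        inv_eq_of_mul_eq_one_right e])
    exact hjS (cent_inner X (inner_or_mul X hvS hu hvin hu') hw (hvj.symm.mul_right hju))
  have hm2 : orderOf (i * j) / 2 = m := by omega
  rw [hv, hm2] at hvu
  have si := invol_mul_self hi2
  have sj := invol_mul_self hj2
  obtain ⟨r, hr⟩ : ∃ r, r = i * j := ⟨_, rfl⟩
  rw [← hr] at hvu
  have hinv : ∀ n : ℕ, j * r ^ n * j⁻¹ = (r ^ n)⁻¹ := fun n =>
    CfsgLib.Invol.conj_pow_inv (by rw [hr]; exact CfsgLib.Invol.conj_right_mul hi2 hj2) n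
  have hflip : ∀ n : ℕ, r ^ n * j * (r ^ n)⁻¹ = j * (r ^ (2 * n))⁻¹ := by
    intro n
    have h := hinv n
    calc r ^ n * j * (r ^ n)⁻¹ = j * (j * r ^ n * j⁻¹) * (r ^ n)⁻¹ := by
          rw [inv_eq_of_mul_eq_one_right sj]
          simp only [← mul_assoc, sj, one_mul]
      _ = j * (r ^ (2 * n))⁻¹ := by rw [h, two_mul, pow_add, mul_inv_rev, mul_assoc]
  rcases Nat.even_or_odd' m with ⟨n, hn | hn⟩
  · -- the member times the outer involution is conjugate to it
    have h1 : j * u ∈ conjugatesOf d := by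
      have := conj_mem_class (r ^ n) hjD
      rwa [hflip, ← hn, hvu, inv_eq_of_mul_eq_one_right su] at this
    have h2 : a * u ∈ conjugatesOf d := by
      have := conj_mem_class g⁻¹ h1
      rwa [inv_inv, hj, show g⁻¹ * (g * a * g⁻¹ * u) * g = a * (g⁻¹ * u * g) by group,
        show g⁻¹ * u * g = u by rw [mul_assoc, ← hg.eq, inv_mul_cancel_left]] at this
    have h3 := member X h2 (mul_mem (le_St X (Subgroup.subset_closure ha)) hu)
    refine hu' ?_
    have := mul_mem (inv_mem (Subgroup.subset_closure ha : a ∈ Subgroup.closure (Cmp d)))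
      (Subgroup.subset_closure h3)
    rwa [inv_mul_cancel_left] at this
  · -- the inner involution times the outer one is conjugate to a member
    have hiju : i * u = r ^ (n + 1) * j * (r ^ (n + 1))⁻¹ * 1 := by
      rw [mul_one, hflip, show 2 * (n + 1) = m + 1 by omega, pow_succ, hvu, mul_inv_rev, hr, mul_inv_rev,
        inv_eq_of_mul_eq_one_right si, inv_eq_of_mul_eq_one_right sj, inv_eq_of_mul_eq_one_right su]
      simp only [← mul_assoc, sj, one_mul]
    have h1 : i * u ∈ conjugatesOf d := by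
      rw [hiju, mul_one]; exact conj_mem_class _ hjD
    have h3 := member X h1 (mul_mem (le_St X hiS) hu)
    refine hu' ?_
    have := mul_mem (inv_mem hiS) (Subgroup.subset_closure h3)
    rwa [inv_mul_cancel_left] at this

/-- Every element stabilises the component. -/
theorem St_eq_top : St d = ⊤ := by
  by_contra hne
  obtain ⟨g, hg⟩ : ∃ g, g ∉ St d := by
    by_contra! h
    exact hne (eq_top_iff.2 fun y _ => h y)
  have hd : d ∈ Cmp d := Relation.ReflTransGen.refl
  obtain ⟨q, hq⟩ : ∃ q, q ∈ Db (conjugatesOf d) d := by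
    obtain ⟨u, hu, -⟩ := (u6Facts X.cen.u6 X.cen.group).pair
    exact ⟨u, hu⟩
  obtain ⟨b, hb, rfl⟩ := exists_bar hq
  obtain ⟨hi2, hiD⟩ := pair_not_member X hd hb
  have hiS : d * b ∈ Subgroup.closure (Cmp d) :=
    mul_mem (Subgroup.subset_closure hd) (Subgroup.subset_closure (hd.tail hb))
  obtain ⟨j, hj⟩ : ∃ j, j = g * d * g⁻¹ := ⟨_, rfl⟩
  have hjD : j ∈ conjugatesOf d := hj ▸ conj_mem_class g (cmp_class hd)
  have hjS : j ∉ St d := fun h => hg (St_of_one hd (hj ▸ member X hjD h))
  obtain ⟨v, hv2, hvi, hvj⟩ := CfsgLib.Invol.exists_commute_both hi2 (ord X hjD)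
    (CfsgLib.Invol.even_of_not_isConj hi2 (ord X hjD) fun hc =>
      hiD ((show IsConj d j from hjD).trans hc.symm))
  have hvS := cent_inner X hiS hi2 hvi
  by_cases hvin : v ∈ Subgroup.closure (Cmp d)
  · exact hjS (cent_inner X hvin hv2 hvj.symm)
  · exact hjS (cent_outer X hvS hvin hv2 hvj.symm)

theorem normal : (Subgroup.closure (Cmp d)).Normal :=
  ⟨fun _ hn g => St_normalizes (St_eq_top X ▸ Subgroup.mem_top g) hn⟩

theorem index : (Subgroup.closure (Cmp d)).index = 2 := by
  rw [Subgroup.index_eq_two_iff]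
  obtain ⟨w, hw, hwH⟩ := X.swap
  have hwS : w ∉ Subgroup.closure (Cmp d) := fun h => hwH (X.pack.inner w h hw)
  refine ⟨w, fun g => ?_⟩
  by_cases hg : g ∈ Subgroup.closure (Cmp d)
  · refine Or.inr ⟨hg, fun h => hwS ?_⟩
    have := mul_mem (inv_mem hg) h
    rwa [inv_mul_cancel_left] at this
  · exact Or.inl ⟨inner_or_mul X (St_eq_top X ▸ Subgroup.mem_top g) (St_eq_top X ▸ Subgroup.mem_top w) hg hwS, hg⟩

/-- The group of the component has trivial centraliser. -/
theorem centralizer_bot : Subgroup.centralizer (Subgroup.closure (Cmp d) : Set G) = ⊥ := by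
  rw [eq_bot_iff]
  intro g hg
  rw [Subgroup.mem_centralizer_iff] at hg
  have hd : d ∈ Subgroup.closure (Cmp d) := Subgroup.subset_closure Relation.ReflTransGen.refl
  rcases X.cen.small g (Subgroup.mem_centralizer_singleton_iff.2 (hg d hd).symm) fun u hu =>
    (show Commute g u from (hg u (Hd_le (Subgroup.subset_closure hu))).symm) with h | h
  · exact Subgroup.mem_bot.2 h
  · exfalso
    have hc : (⟨d, hd⟩ : ↥(Subgroup.closure (Cmp d))) ∈ Subgroup.center _ :=
      Subgroup.mem_center_iff.2 fun w => Subtype.ext (h ▸ hg w w.2)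
    rw [X.pack.m22.1, Subgroup.mem_bot] at hc
    exact CfsgLib.Invol.invol_ne_one X.cen.ord (congrArg Subtype.val hc)

end CfsgLib.InvChar.Fi22W.Top
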